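import Mathlib
import Cfsg.Agent.Lib.MultL34.Data

/-!
The group of monomial permutations of `112 × 4` points preserving the phases on the two graphs of
disjoint hyperovals.  Over the identity of the plane it consists of the sixteen shifts.
-/

set_option autoImplicit false

namespace Cfsg.Agent.MultL34

/-- Hyperoval `i` as a set of points. -/
def mask (i : ℕ) : ℕ := maskD / 2 ^ (21 * i) % 2 ^ 21

/-- Parent in the spanning tree. -/
def par (i : ℕ) : ℕ := parD / 2 ^ (7 * i) % 128

/-- The neighbours of the point `p = 4 i + z`. -/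
def nbr (p : ℕ) : List ℕ :=
  (List.range 10).map fun s =>
    let w := nbrD / 2 ^ (90 * (p / 4) + 9 * s) % 512
    4 * (w / 4) + (p % 4 + 4 - w % 4) % 4

/-- Shift of component `c` (the hyperovals `56 c, …, 56 c + 55`). -/
def sh (a b p : ℕ) : ℕ :=
  if p < 224 then 4 * (p / 4) + (p % 4 + a) % 4 else 4 * (p / 4) + (p % 4 + b) % 4

theorem sh_lt (a b : ℕ) (p : Fin 448) : sh a b p.val < 448 := by
  have := p.isLt
  unfold sh; split <;> omega

/-- The shifts as permutations. -/
def tauF (a b : ℕ) (p : Fin 448) : Fin 448 := ⟨sh a b p.val, sh_lt a b p⟩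

theorem tauF_comp (a b a' b' : ℕ) (p : Fin 448) :
    tauF a b (tauF a' b' p) = tauF (a' + a) (b' + b) p := by
  apply Fin.ext
  have := p.isLt
  simp only [tauF, sh]
  split_ifs <;> omega

theorem tauF_zero (p : Fin 448) : tauF 0 0 p = p := by
  apply Fin.ext
  simp only [tauF, sh]
  split_ifs <;> omega

theorem tauF_eq (a b a' b' : ℕ) (ha : a % 4 = a' % 4) (hb : b % 4 = b' % 4) (p : Fin 448) :
    tauF a b p = tauF a' b' p := by
  apply Fin.ext
  simp only [tauF, sh]
  split_ifs <;> omega

/-- The shift by `(a, b)`. -/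
def tau (a b : ℕ) : Equiv.Perm (Fin 448) where
  toFun := tauF a b
  invFun := tauF (3 * a) (3 * b)
  left_inv p := by
    rw [tauF_comp, tauF_eq _ _ 0 0 (by omega) (by omega), tauF_zero]
  right_inv p := by
    rw [tauF_comp, tauF_eq _ _ 0 0 (by omega) (by omega), tauF_zero]

theorem tau_mul (a b a' b' : ℕ) : tau a b * tau a' b' = tau (a' + a) (b' + b) :=
  Equiv.ext fun p => tauF_comp a b a' b' p

theorem tau_congr {a b a' b' : ℕ} (ha : a % 4 = a' % 4) (hb : b % 4 = b' % 4) :
    tau a b = tau a' b' :=
  Equiv.ext fun p => tauF_eq a b a' b' ha hb p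

theorem tau_zero : tau 0 0 = 1 := Equiv.ext fun p => tauF_zero p

theorem tau_commute (a b a' b' : ℕ) : tau a b * tau a' b' = tau a' b' * tau a b := by
  rw [tau_mul, tau_mul]; exact tau_congr (by omega) (by omega)

theorem tau_pow (a b : ℕ) : ∀ k : ℕ, tau a b ^ k = tau (k * a) (k * b)
  | 0 => by rw [pow_zero]; exact tau_zero.symm.trans (tau_congr (by simp) (by simp))
  | k + 1 => by
    rw [pow_succ, tau_pow a b k, tau_mul]
    exact tau_congr (by ring_nf) (by ring_nf)

/-- The compatibility of a permutation of the 21 points with a permutation of the 448. -/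
structure Good (g : Equiv.Perm (Fin 21)) (h : Equiv.Perm (Fin 448)) : Prop where
  shift : ∀ p : Fin 448, ∀ a b : ℕ, h (tau a b p) = tau a b (h p)
  edge : ∀ p q : Fin 448, q.val ∈ nbr p.val → (h q).val ∈ nbr (h p).val
  mask : ∀ (p : Fin 448) (k : Fin 21),
    (mask ((h p).val / 4)).testBit (g k).val = (mask (p.val / 4)).testBit k.val

theorem Good.one : Good 1 1 :=
  ⟨fun _ _ _ => rfl, fun _ _ h => h, fun _ _ => rfl⟩

theorem Good.mul {g g' : Equiv.Perm (Fin 21)} {h h' : Equiv.Perm (Fin 448)}
    (x : Good g h) (y : Good g' h') : Good (g * g') (h * h') where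
  shift p a b := by simp only [Equiv.Perm.mul_apply, y.shift, x.shift]
  edge p q hq := x.edge _ _ (y.edge p q hq)
  mask p k := by simp only [Equiv.Perm.mul_apply, x.mask, y.mask]

/-- Good pairs form a subgroup. -/
def goodSub : Subgroup (Equiv.Perm (Fin 21) × Equiv.Perm (Fin 448)) :=
  { carrier := {x | Good x.1 x.2}
    one_mem' := Good.one
    mul_mem' := fun hx hy => hx.mul hy
    inv_mem' := fun {x} hx => by
      have hp : ∀ n : ℕ, Good (x ^ n).1 (x ^ n).2 := by
        intro n
        induction n with
        | zero => exact Good.one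
        | succ n ih => rw [pow_succ]; exact ih.mul hx
      have h1 : x⁻¹ = x ^ (orderOf x - 1) := by
        refine inv_eq_of_mul_eq_one_right ?_
        rw [← pow_succ', Nat.sub_add_cancel (orderOf_pos x), pow_orderOf_eq_one]
      show Good x⁻¹.1 x⁻¹.2
      rw [h1]
      exact hp _ }

theorem mask_inj : (List.range 112).all (fun i => (List.range 112).all fun j =>
    i == j || mask i != mask j) = true := by decide +kernel

theorem mask_lt (i : ℕ) : mask i < 2 ^ 21 := Nat.mod_lt _ (Nat.two_pow_pos 21)

theorem tree_ok : (List.range 112).all (fun i => if i % 56 == 0 then true else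
    Nat.blt (par i) i && (par i / 56 == i / 56) && (List.range 4).any fun b =>
      (nbr (4 * i)).contains (4 * par i + b) &&
        (List.range 4).all fun v => v == 0 || !(nbr (4 * i + v)).contains (4 * par i + b)) = true := by
  decide +kernel

theorem nbr_symm_tree : (List.range 448).all (fun p => (nbr p).all fun q => Nat.blt q 448) = true := by
  decide +kernel

theorem Good.fiber {h : Equiv.Perm (Fin 448)} (x : Good 1 h) (p : Fin 448) :
    (h p).val / 4 = p.val / 4 := by
  have := List.all_eq_true.1 (List.all_eq_true.1 mask_inj ((h p).val / 4)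
    (List.mem_range.2 (by omega))) (p.val / 4) (List.mem_range.2 (by omega))
  simp only [Bool.or_eq_true, beq_iff_eq, bne_iff_ne] at this
  rcases this with h' | h'
  · exact h'
  · refine absurd ?_ h'
    refine Nat.eq_of_testBit_eq fun k => ?_
    by_cases hk : k < 21
    · exact x.mask p ⟨k, hk⟩
    · have h2 : 2 ^ 21 ≤ 2 ^ k := Nat.pow_le_pow_right (by norm_num) (not_lt.1 hk)
      rw [Nat.testBit_lt_two_pow ((mask_lt _).trans_le h2),
        Nat.testBit_lt_two_pow ((mask_lt _).trans_le h2)]

/-- A good permutation over the identity fixing the two roots is trivial. -/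
theorem Good.eq_one {h : Equiv.Perm (Fin 448)} (x : Good 1 h) (h0 : h 0 = 0) (h1 : h 224 = 224) :
    h = 1 := by
  have hfib := x.fiber
  have hbase : ∀ i : ℕ, ∀ hi : 4 * i < 448, h ⟨4 * i, hi⟩ = ⟨4 * i, hi⟩ →
      ∀ z, ∀ hz : 4 * i + z < 448, z < 4 → h ⟨4 * i + z, hz⟩ = ⟨4 * i + z, hz⟩ := by
    intro i hi he z hz hz4
    have e : (⟨4 * i + z, hz⟩ : Fin 448) = tau z z ⟨4 * i, hi⟩ := by
      apply Fin.ext
      show _ = sh z z (4 * i)
      simp only [sh]; split_ifs <;> omega
    rw [e, x.shift, he]
  have main : ∀ i : ℕ, ∀ hi : 4 * i < 448, h ⟨4 * i, hi⟩ = ⟨4 * i, hi⟩ := by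
    intro i
    induction i using Nat.strong_induction_on with
    | _ i ih =>
      intro hi
      have ht := List.all_eq_true.1 tree_ok i (List.mem_range.2 (by omega))
      by_cases hr : i % 56 = 0
      · rcases (show i = 0 ∨ i = 56 by omega) with rfl | rfl
        · exact h0
        · exact h1
      · rw [if_neg (by simpa using hr)] at ht
        simp only [Bool.and_eq_true, List.any_eq_true, List.all_eq_true, List.mem_range,
          List.contains_iff_mem, Bool.or_eq_true, beq_iff_eq, Nat.blt_eq, Bool.not_eq_true'] at ht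
        obtain ⟨⟨hlt, hcomp⟩, b, hb, hmem, huniq⟩ := ht
        have hq : 4 * par i + b < 448 := by omega
        have hfix := hbase (par i) (by omega) (ih _ hlt (by omega)) b hq hb
        have he := x.edge ⟨4 * i, hi⟩ ⟨4 * par i + b, hq⟩ hmem
        rw [hfix] at he
        have hf := hfib ⟨4 * i, hi⟩
        simp only at hf he
        have hv := huniq ((h ⟨4 * i, hi⟩).val % 4) (Nat.mod_lt _ (by norm_num))
        rw [show 4 * i + (h ⟨4 * i, hi⟩).val % 4 = (h ⟨4 * i, hi⟩).val by omega] at hv
        rcases hv with hv | hv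
        · apply Fin.ext
          show (h ⟨4 * i, hi⟩).val = 4 * i
          omega
        · rw [← List.contains_iff_mem, hv] at he
          exact absurd he (by decide)
  refine Equiv.ext fun p => ?_
  have h2 := hbase (p.val / 4) (by omega) (main _ (by omega)) (p.val % 4) (by omega)
    (Nat.mod_lt _ (by norm_num))
  have e : (⟨4 * (p.val / 4) + p.val % 4, by omega⟩ : Fin 448) = p := Fin.ext (by simp only; omega)
  rwa [e] at h2

theorem tau_edge_check : (List.range 448).all (fun p => (nbr p).all fun q =>
    (nbr (sh 1 0 p)).contains (sh 1 0 q) && (nbr (sh 0 1 p)).contains (sh 0 1 q)) = true := by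
  decide +kernel

theorem good_tau_one (a b : ℕ) (h : ∀ p ∈ List.range 448, ∀ q ∈ nbr p,
    sh a b q ∈ nbr (sh a b p)) : Good 1 (tau a b) where
  shift p a' b' := Equiv.ext_iff.1 (tau_commute a b a' b') p
  edge p q hq := h p.val (List.mem_range.2 p.isLt) q.val hq
  mask p k := by
    show (MultL34.mask (sh a b p.val / 4)).testBit k.val = _
    have : sh a b p.val / 4 = p.val / 4 := by unfold sh; split <;> omega
    rw [this]

theorem good_tau (a b : ℕ) : Good 1 (tau a b) := by
  have hc := List.all_eq_true.1 tau_edge_check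
  have h0 : Good 1 (tau 1 0) := good_tau_one 1 0 fun p hp q hq => by
    have := List.all_eq_true.1 (hc p hp) q hq
    simp only [Bool.and_eq_true, List.contains_iff_mem] at this
    exact this.1
  have h1 : Good 1 (tau 0 1) := good_tau_one 0 1 fun p hp q hq => by
    have := List.all_eq_true.1 (hc p hp) q hq
    simp only [Bool.and_eq_true, List.contains_iff_mem] at this
    exact this.2
  have hm0 : ((1 : Equiv.Perm (Fin 21)), tau 1 0) ∈ goodSub := h0
  have hm1 : ((1 : Equiv.Perm (Fin 21)), tau 0 1) ∈ goodSub := h1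
  have := mul_mem (pow_mem hm0 a) (pow_mem hm1 b)
  have e : ((1 : Equiv.Perm (Fin 21)), tau 1 0) ^ a * ((1 : Equiv.Perm (Fin 21)), tau 0 1) ^ b =
      (1, tau a b) := by
    rw [Prod.pow_mk, Prod.pow_mk, Prod.mk_mul_mk, one_pow, one_pow, one_mul, tau_pow, tau_pow,
      tau_mul]
    simp
  rw [e] at this
  exact this

/-- The good permutations over the identity are the sixteen shifts. -/
theorem Good.eq_tau {h : Equiv.Perm (Fin 448)} (x : Good 1 h) :
    ∃ a b : ℕ, h = tau a b := by
  have hfib := x.fiber
  have f0 := hfib 0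
  have f1 := hfib 224
  refine ⟨(h 0).val, (h 224).val, ?_⟩
  have hk : Good 1 (tau (3 * (h 0).val) (3 * (h 224).val) * h) := by
    have := (good_tau (3 * (h 0).val) (3 * (h 224).val)).mul x
    rwa [one_mul] at this
  have e := hk.eq_one
    (by
      apply Fin.ext
      show sh _ _ (h 0).val = 0
      have : ((0 : Fin 448).val) = 0 := rfl
      simp only [sh]; split_ifs <;> omega)
    (by
      apply Fin.ext
      show sh _ _ (h 224).val = 224
      have : ((224 : Fin 448).val) = 224 := rfl
      simp only [sh]; split_ifs <;> omega)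
  have e2 : tau (h 0).val (h 224).val * tau (3 * (h 0).val) (3 * (h 224).val) = 1 := by
    rw [tau_mul, ← tau_zero]; exact tau_congr (by omega) (by omega)
  calc h = tau (h 0).val (h 224).val * (tau (3 * (h 0).val) (3 * (h 224).val) * h) := by
        rw [← mul_assoc, e2, one_mul]
    _ = tau (h 0).val (h 224).val := by rw [e, mul_one]

theorem tau_inj {a b a' b' : ℕ} (h : tau a b = tau a' b') : a % 4 = a' % 4 ∧ b % 4 = b' % 4 := by
  have h0 := congrArg Fin.val (Equiv.ext_iff.1 h 0)
  have h1 := congrArg Fin.val (Equiv.ext_iff.1 h 224)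
  change sh a b 0 = sh a' b' 0 at h0
  change sh a b 224 = sh a' b' 224 at h1
  simp only [sh] at h0 h1
  norm_num at h0 h1
  omega

end Cfsg.Agent.MultL34
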