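import Mathlib
import Cfsg.Agent.Lib.MultL34.Monomial

/-!
The lifts of the twelve transvections are good, and two products of their commutators are the
shifts by `(2, 3)` and `(3, 3)`.
-/

set_option autoImplicit false

namespace Cfsg.Agent.MultL34

open scoped commutatorElement

/-- The image of a point under a lift, read from a table. -/
def look (D : List ℕ) (g p : ℕ) : ℕ := D.getD g 0 / 2 ^ (9 * p) % 512

/-- The plane permutation, read from the table. -/
def ptLook (g k : ℕ) : ℕ := ptD.getD g 0 / 2 ^ (5 * k) % 32 % 21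

theorem lift_check : (List.range 12).all (fun g => (List.range 448).all fun p =>
    Nat.blt (look genD g p) 448 && Nat.blt (look invD g p) 448 &&
    (look invD g (look genD g p) == p) && (look genD g (look invD g p) == p) &&
    (look genD g (sh 1 0 p) == sh 1 0 (look genD g p)) &&
    (look genD g (sh 0 1 p) == sh 0 1 (look genD g p)) &&
    ((List.range 21).all fun k => (mask (look genD g p / 4)).testBit (ptLook g k) ==
      (mask (p / 4)).testBit k)) = true := by decide +kernel

theorem edge_check : (List.range 12).all (fun g => (List.range 448).all fun p =>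
    (nbr p).all fun q => (nbr (look genD g p)).contains (look genD g q)) = true := by
  decide +kernel

theorem lift_facts (g : Fin 12) (p : ℕ) (hp : p < 448) :
    look genD g p < 448 ∧ look invD g p < 448 ∧ look invD g (look genD g p) = p ∧
    look genD g (look invD g p) = p ∧ look genD g (sh 1 0 p) = sh 1 0 (look genD g p) ∧
    look genD g (sh 0 1 p) = sh 0 1 (look genD g p) ∧
    ∀ k : ℕ, k < 21 → (mask (look genD g p / 4)).testBit (ptLook g k) =
      (mask (p / 4)).testBit k := by
  have := List.all_eq_true.1 (List.all_eq_true.1 lift_check g.val (List.mem_range.2 g.isLt)) p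
    (List.mem_range.2 hp)
  simp only [Bool.and_eq_true, Nat.blt_eq, beq_iff_eq, List.all_eq_true, List.mem_range] at this
  obtain ⟨⟨⟨⟨⟨⟨h1, h2⟩, h3⟩, h4⟩, h5⟩, h6⟩, h7⟩ := this
  exact ⟨h1, h2, h3, h4, h5, h6, h7⟩

/-- The lift of a transvection. -/
def lift (g : Fin 12) : Equiv.Perm (Fin 448) where
  toFun p := ⟨look genD g p, (lift_facts g p p.isLt).1⟩
  invFun p := ⟨look invD g p, (lift_facts g p p.isLt).2.1⟩
  left_inv p := Fin.ext (lift_facts g p p.isLt).2.2.1
  right_inv p := Fin.ext (lift_facts g p p.isLt).2.2.2.1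

theorem good_lift (g : Fin 12) (s : Equiv.Perm (Fin 21))
    (hs : ∀ k : Fin 21, (s k).val = ptLook g k.val) : Good s (lift g) where
  shift p a b := by
    have c0 : Commute (lift g) (tau 1 0) := Equiv.ext fun p =>
      Fin.ext (lift_facts g p.val p.isLt).2.2.2.2.1
    have c1 : Commute (lift g) (tau 0 1) := Equiv.ext fun p =>
      Fin.ext (lift_facts g p.val p.isLt).2.2.2.2.2.1
    have c := (c0.pow_right a).mul_right (c1.pow_right b)
    rw [tau_pow, tau_pow, tau_mul, tau_congr (a' := a) (b' := b) (by simp) (by simp)] at c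
    exact Equiv.ext_iff.1 c.eq p
  edge p q hq := by
    have := List.all_eq_true.1 (List.all_eq_true.1 (List.all_eq_true.1 edge_check g.val
      (List.mem_range.2 g.isLt)) p.val (List.mem_range.2 p.isLt)) q.val hq
    rwa [List.contains_iff_mem] at this
  mask p k := by
    rw [hs k]
    exact (lift_facts g p.val p.isLt).2.2.2.2.2.2 k.val k.isLt

/-- The commutator of two lifts on a point. -/
def cmLook (a b p : ℕ) : ℕ := look genD a (look genD b (look invD a (look invD b p)))

/-- A product of commutators on a point. -/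
def wordLook : List (ℕ × ℕ) → ℕ → ℕ
  | [], p => p
  | ab :: w, p => cmLook ab.1 ab.2 (wordLook w p)

theorem wordX_check : (List.range 448).all (fun p => wordLook wordX p == sh 2 3 p) = true := by
  decide +kernel

theorem wordY_check : (List.range 448).all (fun p => wordLook wordY p == sh 3 3 p) = true := by
  decide +kernel

theorem wordXY_lt : (∀ ab ∈ wordX, ab.1 < 12 ∧ ab.2 < 12) ∧
    ∀ ab ∈ wordY, ab.1 < 12 ∧ ab.2 < 12 := by decide +kernel

theorem wordLook_spec : ∀ (w : List (ℕ × ℕ)), (∀ ab ∈ w, ab.1 < 12 ∧ ab.2 < 12) →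
    ∀ p : Fin 448, wordLook w p.val =
      ((w.map fun ab => ⁅lift (Fin.ofNat 12 ab.1), lift (Fin.ofNat 12 ab.2)⁆).prod p).val
  | [], _, p => rfl
  | ab :: w, h, p => by
    rw [List.map_cons, List.prod_cons, Equiv.Perm.mul_apply]
    show cmLook ab.1 ab.2 (wordLook w p.val) = _
    rw [wordLook_spec w (fun x hx => h x (List.mem_cons_of_mem _ hx)) p, commutatorElement_def]
    obtain ⟨h1, h2⟩ := h ab List.mem_cons_self
    have e1 : ((Fin.ofNat 12 ab.1 : Fin 12) : ℕ) = ab.1 := Nat.mod_eq_of_lt h1
    have e2 : ((Fin.ofNat 12 ab.2 : Fin 12) : ℕ) = ab.2 := Nat.mod_eq_of_lt h2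
    simp only [Equiv.Perm.mul_apply]
    show _ = look genD (Fin.ofNat 12 ab.1 : Fin 12) (look genD (Fin.ofNat 12 ab.2 : Fin 12)
      (look invD (Fin.ofNat 12 ab.1 : Fin 12) (look invD (Fin.ofNat 12 ab.2 : Fin 12) _)))
    rw [e1, e2]
    rfl

theorem word_eq (w : List (ℕ × ℕ)) (hw : ∀ ab ∈ w, ab.1 < 12 ∧ ab.2 < 12) (a b : ℕ)
    (hc : (List.range 448).all (fun p => wordLook w p == sh a b p) = true) :
    (w.map fun ab => ⁅lift (Fin.ofNat 12 ab.1), lift (Fin.ofNat 12 ab.2)⁆).prod = tau a b := by
  refine Equiv.ext fun p => Fin.ext ?_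
  rw [← wordLook_spec w hw p]
  exact beq_iff_eq.1 (List.all_eq_true.1 hc p.val (List.mem_range.2 p.isLt))

end Cfsg.Agent.MultL34
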