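import Mathlib
import Cfsg.Agent.Lib.MultL34.Data
import Cfsg.Agent.Lib.Enum.F4
import Cfsg.Agent.Lib.LinearGroups.Basic

/-!
The action of `SL(3,4)` on 21 labelled points.
-/

set_option autoImplicit false

namespace Cfsg.Agent.MultL34

open Cfsg.Agent.Enum
open scoped LinearAlgebra.Projectivization

local notation "SL₃" => Matrix.SpecialLinearGroup (Fin 3) F4

/-- Coordinates of the points. -/
def vec (k : Fin 21) : Fin 3 → F4 := fun i =>
  ⟨⟨vecD / 2 ^ (6 * k.val + 2 * i.val) % 4, Nat.mod_lt _ (by norm_num)⟩⟩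

theorem vec_ne : ∀ k : Fin 21, vec k 0 ≠ 0 ∨ vec k 1 ≠ 0 ∨ vec k 2 ≠ 0 := by decide +kernel

theorem vec_ne' (k : Fin 21) : vec k ≠ 0 := by
  intro h
  rcases vec_ne k with e | e | e <;> exact e (by rw [h]; rfl)

theorem vec_indep : ∀ k l : Fin 21, k = l ∨ ∀ c : F4,
    c * vec l 0 ≠ vec k 0 ∨ c * vec l 1 ≠ vec k 1 ∨ c * vec l 2 ≠ vec k 2 := by decide +kernel

theorem vec_total : ∀ a b c : F4, (a = 0 ∧ b = 0 ∧ c = 0) ∨ ∃ k : Fin 21, ∃ r : F4,
    r * vec k 0 = a ∧ r * vec k 1 = b ∧ r * vec k 2 = c := by decide +kernel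

/-- The point with label `k`. -/
def point (k : Fin 21) : ℙ F4 (Fin 3 → F4) := Projectivization.mk F4 (vec k) (vec_ne' k)

theorem point_bijective : Function.Bijective point := by
  constructor
  · intro k l h
    obtain ⟨c, hc⟩ := (Projectivization.mk_eq_mk_iff' F4 _ _ (vec_ne' k) (vec_ne' l)).1 h
    rcases vec_indep k l with e | e
    · exact e
    · rcases e c with e | e | e <;> exact absurd (congrFun hc _) e
  · intro p
    induction p using Projectivization.ind with | _ v hv =>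
    rcases vec_total (v 0) (v 1) (v 2) with ⟨h0, h1, h2⟩ | ⟨k, r, h0, h1, h2⟩
    · exact absurd (funext fun i => by fin_cases i <;> assumption) hv
    · refine ⟨k, ?_⟩
      refine ((Projectivization.mk_eq_mk_iff' F4 _ _ hv (vec_ne' k)).2 ⟨r, ?_⟩).symm
      ext i
      fin_cases i
      · exact h0
      · exact h1
      · exact h2

/-- The labelling. -/
noncomputable def label : Fin 21 ≃ ℙ F4 (Fin 3 → F4) := Equiv.ofBijective point point_bijective

/-- The action on labels. -/
noncomputable def psi : SL₃ →* Equiv.Perm (Fin 21) :=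
  (label.symm.permCongrHom.toMonoidHom).comp (MulAction.toPermHom SL₃ (ℙ F4 (Fin 3 → F4)))

theorem psi_ker : psi.ker = Subgroup.center SL₃ := by
  rw [← Projectivization.SL_mulAction_ker]
  ext s
  simp only [psi, MonoidHom.mem_ker, MonoidHom.comp_apply, MulEquiv.coe_toMonoidHom,
    MulEquiv.map_eq_one_iff]

theorem psi_apply_eq {s : SL₃} {k l : Fin 21} (h : s • point k = point l) : psi s k = l := by
  show label.symm.permCongr (MulAction.toPerm s) k = l
  rw [Equiv.permCongr_apply, Equiv.symm_symm, Equiv.symm_apply_eq]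
  exact h

/-- The permutation of the labels of a generator. -/
def ptImg (g : ℕ) (k : Fin 21) : Fin 21 :=
  ⟨ptD.getD g 0 / 2 ^ (5 * k.val) % 32 % 21, Nat.mod_lt _ (by norm_num)⟩

/-- The data of a generator. -/
def trv (g : Fin 12) : Fin 3 × Fin 3 × Fin 4 := trD.getD g.val (0, 1, 0)

theorem trv_ne : ∀ g : Fin 12, (trv g).1 ≠ (trv g).2.1 := by decide +kernel

/-- A generator. -/
def tgen (g : Fin 12) : SL₃ :=
  Matrix.SpecialLinearGroup.transvection (trv_ne g) ⟨(trv g).2.2⟩

theorem tgen_table : ∀ g : Fin 12, ∀ k : Fin 21, ∃ c : F4, ∀ a : Fin 3,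
    c * vec (ptImg g.val k) a =
      vec k a + (if a = (trv g).1 then (⟨(trv g).2.2⟩ : F4) * vec k (trv g).2.1 else 0) := by
  decide +kernel

theorem psi_tgen (g : Fin 12) (k : Fin 21) : psi (tgen g) k = ptImg g.val k := by
  refine psi_apply_eq ?_
  obtain ⟨c, hc⟩ := tgen_table g k
  rw [point, point, Projectivization.smul_mk, Projectivization.mk_eq_mk_iff']
  refine ⟨c, funext fun a => ?_⟩
  rw [Pi.smul_apply, smul_eq_mul, hc a]
  rw [Matrix.SpecialLinearGroup.smul_def, tgen, Matrix.SpecialLinearGroup.transvection_coe,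
    Matrix.smul_eq_mulVec, Matrix.add_mulVec, Matrix.one_mulVec, Pi.add_apply,
    Matrix.single_mulVec, Function.update_apply, Pi.zero_apply]

theorem tgen_cover : ∀ i j : Fin 3, i = j ∨ ∀ t : F4, t = 0 ∨
    (∃ g : Fin 12, (trv g).1 = i ∧ (trv g).2.1 = j ∧ (⟨(trv g).2.2⟩ : F4) = t) ∨
    ∃ g h : Fin 12, (trv g).1 = i ∧ (trv g).2.1 = j ∧ (trv h).1 = i ∧ (trv h).2.1 = j ∧
      (⟨(trv g).2.2⟩ : F4) + ⟨(trv h).2.2⟩ = t := by decide +kernel

theorem closure_tgen : Subgroup.closure (Set.range tgen) = ⊤ := by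
  rw [eq_top_iff, ← LinGrp.closure_transvectionSet, Subgroup.closure_le]
  rintro x ⟨i, j, hij, t, rfl⟩
  have hg : ∀ g : Fin 12, (trv g).1 = i → (trv g).2.1 = j →
      Matrix.SpecialLinearGroup.transvection hij ⟨(trv g).2.2⟩ ∈
        Subgroup.closure (Set.range tgen) := by
    intro g h1 h2
    subst h1 h2
    exact Subgroup.subset_closure ⟨g, rfl⟩
  rcases (tgen_cover i j).resolve_left hij t with rfl | ⟨g, h1, h2, rfl⟩ | ⟨g, h, h1, h2, h3, h4, rfl⟩
  · rw [Matrix.SpecialLinearGroup.transvection_coeff_zero]; exact one_mem _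
  · exact hg g h1 h2
  · rw [Matrix.SpecialLinearGroup.transvection_add]
    exact mul_mem (hg g h1 h2) (hg h h3 h4)

end Cfsg.Agent.MultL34
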