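import Mathlib
import Cfsg.Agent.Lib.MultL34.Plane
import Cfsg.Agent.Lib.MultL34.Lifts
import Cfsg.Agent.Lib.LinearGroups.Basic
import Cfsg.Prelude.Def_KGroupFacts

/-!
A stem extension of `PSL(3,4)` with kernel `Z/3 × Z/4 × Z/4`.
-/

set_option autoImplicit false

namespace Cfsg.Agent.MultL34

open Cfsg.Agent.Enum
open scoped commutatorElement

universe u

variable {F : Type u} [Field F] (e : F ≃+* F4)

local notation "SLF" => Matrix.SpecialLinearGroup (Fin 3) F
local notation "SL4" => Matrix.SpecialLinearGroup (Fin 3) F4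

/-- The action of `SL(3,F)` on the labelled points. -/
noncomputable def act : SLF →* Equiv.Perm (Fin 21) :=
  psi.comp (Matrix.SpecialLinearGroup.map e.toRingHom)

theorem map_map_symm (s : SL4) :
    Matrix.SpecialLinearGroup.map e.toRingHom
      (Matrix.SpecialLinearGroup.map e.symm.toRingHom s) = s := by
  apply Matrix.SpecialLinearGroup.ext
  intro i j
  exact e.apply_symm_apply _

theorem map_injective : Function.Injective (Matrix.SpecialLinearGroup.map (n := Fin 3) e.toRingHom) := by
  intro s t h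
  apply Matrix.SpecialLinearGroup.ext
  intro i j
  exact e.injective (congrFun (congrFun (congrArg Subtype.val h) i) j)

theorem act_eq_one {s : SLF} : act e s = 1 ↔ s ∈ Subgroup.center SLF := by
  show psi (Matrix.SpecialLinearGroup.map e.toRingHom s) = 1 ↔ _
  rw [← MonoidHom.mem_ker, psi_ker, Subgroup.mem_center_iff, Subgroup.mem_center_iff]
  constructor
  · intro h g
    apply map_injective e
    rw [map_mul, map_mul, h]
  · intro h g
    rw [← map_map_symm e g, ← map_mul, ← map_mul, h]

/-- The cover: pairs of a matrix and a compatible monomial permutation. -/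
noncomputable def cover : Subgroup (SLF × Equiv.Perm (Fin 448)) :=
  goodSub.comap ((act e).prodMap (MonoidHom.id _))

theorem mem_cover {x : SLF × Equiv.Perm (Fin 448)} : x ∈ cover e ↔ Good (act e x.1) x.2 :=
  Iff.rfl

theorem tau_mem (a b : ℕ) : ((1 : SLF), tau a b) ∈ cover e := by
  rw [mem_cover, map_one]; exact good_tau a b

theorem tau_good_commute {g : Equiv.Perm (Fin 21)} {h : Equiv.Perm (Fin 448)} (x : Good g h)
    (a b : ℕ) : h * tau a b = tau a b * h :=
  Equiv.ext fun p => x.shift p a b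

/-- The lift of a generator in the cover. -/
noncomputable def gen (g : Fin 12) : ↥(cover e) :=
  ⟨(Matrix.SpecialLinearGroup.map e.symm.toRingHom (tgen g), lift g), by
    rw [mem_cover]
    show Good (psi (Matrix.SpecialLinearGroup.map e.toRingHom
      (Matrix.SpecialLinearGroup.map e.symm.toRingHom (tgen g)))) (lift g)
    rw [map_map_symm]
    exact good_lift g _ fun k => by rw [psi_tgen]; rfl⟩

/-- The projection to the matrices. -/
noncomputable def fstHom : ↥(cover e) →* SLF :=
  (MonoidHom.fst _ _).comp (cover e).subtype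

theorem fst_surjective : Function.Surjective (fstHom e) := by
  intro s
  have h : Matrix.SpecialLinearGroup.map e.toRingHom s ∈
      ((fstHom e).range.map (Matrix.SpecialLinearGroup.map e.toRingHom)) := by
    refine (show Subgroup.closure (Set.range tgen) ≤ _ from ?_) (closure_tgen ▸ Subgroup.mem_top _)
    rw [Subgroup.closure_le]
    rintro _ ⟨g, rfl⟩
    exact ⟨_, ⟨gen e g, rfl⟩, map_map_symm e _⟩
  obtain ⟨t, ⟨x, hx⟩, ht⟩ := h
  exact ⟨x, hx.trans (map_injective e ht)⟩

theorem cube_center [Fintype F] {s : SLF} (hs : s ∈ Subgroup.center SLF) : s ^ 3 = 1 := by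
  obtain ⟨r, hr, hrs⟩ := Matrix.SpecialLinearGroup.mem_center_iff.1 hs
  rw [Fintype.card_fin] at hr
  apply Subtype.ext
  rw [Matrix.SpecialLinearGroup.coe_pow, Matrix.SpecialLinearGroup.coe_one, ← hrs, ← map_pow, hr,
    map_one]

theorem shift_mem_commutator [Fintype F] (w : List (ℕ × ℕ))
    (hw : ∀ ab ∈ w, ab.1 < 12 ∧ ab.2 < 12) (a b : ℕ)
    (hc : (List.range 448).all (fun p => wordLook w p == sh a b p) = true) :
    (⟨((1 : SLF), tau (3 * a) (3 * b)), tau_mem e _ _⟩ : ↥(cover e)) ∈ commutator ↥(cover e) := by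
  set W : ↥(cover e) :=
    (w.map fun ab => ⁅gen e (Fin.ofNat 12 ab.1), gen e (Fin.ofNat 12 ab.2)⁆).prod with hW
  have hWm : W ∈ commutator ↥(cover e) := Subgroup.list_prod_mem _ fun x hx => by
    obtain ⟨ab, -, rfl⟩ := List.mem_map.1 hx
    exact Subgroup.commutator_mem_commutator (Subgroup.mem_top _) (Subgroup.mem_top _)
  have h2 : W.1.2 = tau a b := by
    rw [← word_eq w hw a b hc, hW]
    rw [show ((w.map fun ab => ⁅gen e (Fin.ofNat 12 ab.1), gen e (Fin.ofNat 12 ab.2)⁆).prod).1.2 =
      ((MonoidHom.snd SLF _).comp (cover e).subtype) _ from rfl, map_list_prod, List.map_map]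
    refine congrArg List.prod ?_
    exact List.map_congr_left fun ab _ => by
      simp only [Function.comp_apply, map_commutatorElement]
      rfl
  have h1 : W.1.1 ^ 3 = 1 := by
    refine cube_center ((act_eq_one e).1 ?_)
    have hg : Good (act e W.1.1) W.1.2 := W.2
    rw [h2] at hg
    refine Equiv.ext fun k => Fin.ext ?_
    by_contra hne
    -- the points are separated by the hyperovals through them
    have hsep : ∀ k l : Fin 21, k = l ∨ ∃ i : Fin 112,
        (mask i.val).testBit k.val ≠ (mask i.val).testBit l.val := by decide +kernel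
    rcases hsep (act e W.1.1 k) k with h | ⟨i, hi⟩
    · exact hne (congrArg Fin.val h)
    · refine hi ?_
      have := hg.mask ⟨4 * i.val, by omega⟩ k
      have hs : (tau a b ⟨4 * i.val, by omega⟩).val / 4 = i.val := by
        show sh a b (4 * i.val) / 4 = i.val
        unfold sh; split <;> omega
      rw [hs] at this
      simpa using this
  have hW3 : W ^ 3 = ⟨((1 : SLF), tau (3 * a) (3 * b)), tau_mem e _ _⟩ := by
    apply Subtype.ext
    refine Prod.ext h1 ?_
    show W.1.2 ^ 3 = _
    rw [h2, tau_pow]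
  exact hW3 ▸ pow_mem hWm 3

theorem shift_generated [Fintype F] (a b : ℕ) :
    (⟨((1 : SLF), tau a b), tau_mem e a b⟩ : ↥(cover e)) ∈ commutator ↥(cover e) := by
  have hX := shift_mem_commutator e wordX wordXY_lt.1 2 3 wordX_check
  have hY := shift_mem_commutator e wordY wordXY_lt.2 3 3 wordY_check
  have h := mul_mem (pow_mem hX (a + 3 * b)) (pow_mem hY (3 * a + 2 * b))
  convert h using 1
  apply Subtype.ext
  refine Prod.ext (by simp) ?_
  show tau a b = tau _ _ ^ _ * tau _ _ ^ _
  rw [tau_pow, tau_pow, tau_mul]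
  exact tau_congr (by ring_nf; omega) (by ring_nf; omega)

local notation "PSLF" => Matrix.ProjectiveSpecialLinearGroup (Fin 3) F

/-- The stem extension. -/
noncomputable def proj : ↥(cover e) →* PSLF := (QuotientGroup.mk' _).comp (fstHom e)

theorem exists_tau {x : ↥(cover e)} (hx : x ∈ (proj e).ker) :
    x.1.1 ∈ Subgroup.center SLF ∧ ∃ a b : ℕ, x.1.2 = tau a b := by
  have hc : x.1.1 ∈ Subgroup.center SLF := (QuotientGroup.eq_one_iff _).1 hx
  have hg : Good (act e x.1.1) x.1.2 := x.2
  rw [(act_eq_one e).2 hc] at hg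
  exact ⟨hc, hg.eq_tau⟩

theorem isStem [Fintype F] : Cfsg.IsStemExtension (proj e) := by
  refine ⟨(QuotientGroup.mk'_surjective _).comp (fst_surjective e), fun x hx => ?_, fun x hx => ?_⟩
  · obtain ⟨hc, a, b, hab⟩ := exists_tau e hx
    rw [Subgroup.mem_center_iff]
    intro y
    apply Subtype.ext
    refine Prod.ext (Subgroup.mem_center_iff.1 hc y.1.1) ?_
    show y.1.2 * x.1.2 = x.1.2 * y.1.2
    rw [hab]
    exact tau_good_commute y.2 a b
  · obtain ⟨hc, -⟩ := exists_tau e hx
    have hperf : commutator SLF = ⊤ := LinGrp.commutator_SL_eq_top (by simp)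
    have hm : (commutator ↥(cover e)).map (fstHom e) = ⊤ := by
      rw [commutator_def, Subgroup.map_commutator, ← MonoidHom.range_eq_map,
        MonoidHom.range_eq_top.2 (fst_surjective e), ← commutator_def, hperf]
    obtain ⟨y, hy, hyx⟩ : x.1.1 ∈ (commutator ↥(cover e)).map (fstHom e) := by
      rw [hm]; exact Subgroup.mem_top _
    have hk : y⁻¹ * x ∈ (proj e).ker := by
      rw [MonoidHom.mem_ker]
      show QuotientGroup.mk' _ (fstHom e (y⁻¹ * x)) = 1
      rw [map_mul, map_inv, hyx, show fstHom e x = x.1.1 from rfl, inv_mul_cancel, map_one]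
    obtain ⟨-, a, b, hab⟩ := exists_tau e hk
    have h1 : (y⁻¹ * x).1.1 = 1 := by
      show fstHom e (y⁻¹ * x) = 1
      rw [map_mul, map_inv, hyx]
      exact inv_mul_cancel _
    have he : y⁻¹ * x = ⟨((1 : SLF), tau a b), tau_mem e a b⟩ := Subtype.ext (Prod.ext h1 hab)
    have := mul_mem hy (shift_generated e a b)
    rwa [← he, mul_inv_cancel_left] at this

theorem ker_equiv [Fintype F] (hF : Fintype.card F = 4) :
    Nonempty ((proj e).ker ≃* Multiplicative (ZMod 3 × ZMod 4 × ZMod 4)) := by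
  classical
  have hZ : Nat.card (Subgroup.center SLF) = 3 := by
    rw [LinGrp.natCard_center_SL, Fintype.card_fin, Nat.card_eq_fintype_card, hF]
    decide
  haveI : Fact (Nat.Prime 3) := ⟨Nat.prime_three⟩
  haveI : IsCyclic (Subgroup.center SLF) := isCyclic_of_prime_card hZ
  let i₁ : Multiplicative (ZMod 3) ≃* Subgroup.center SLF :=
    mulEquivOfCyclicCardEq (by rw [hZ]; simp)
  let m : ZMod 3 × ZMod 4 × ZMod 4 → SLF × Equiv.Perm (Fin 448) :=
    fun v => ((i₁ (Multiplicative.ofAdd v.1) : SLF), tau v.2.1.val v.2.2.val)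
  have hm : ∀ v, m v ∈ cover e := fun v => by
    rw [mem_cover, (act_eq_one e).2 (i₁ _).2]
    exact good_tau _ _
  let f : Multiplicative (ZMod 3 × ZMod 4 × ZMod 4) →* (proj e).ker := MonoidHom.mk'
    (fun v => ⟨⟨m v.toAdd, hm _⟩, (QuotientGroup.eq_one_iff _).2 (i₁ _).2⟩) (fun v w => by
      apply Subtype.ext
      apply Subtype.ext
      refine Prod.ext ?_ ?_
      · show ((i₁ (Multiplicative.ofAdd (v.toAdd.1 + w.toAdd.1))) : SLF) = _
        rw [ofAdd_add, map_mul]
        rfl
      · show tau (v.toAdd.2.1 + w.toAdd.2.1).val (v.toAdd.2.2 + w.toAdd.2.2).val =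
          tau v.toAdd.2.1.val v.toAdd.2.2.val * tau w.toAdd.2.1.val w.toAdd.2.2.val
        rw [tau_mul, ZMod.val_add, ZMod.val_add]
        exact tau_congr (by omega) (by omega))
  refine ⟨(MulEquiv.ofBijective f ⟨fun v w h => ?_, fun x => ?_⟩).symm⟩
  · have h' : m v.toAdd = m w.toAdd := congrArg Subtype.val (congrArg Subtype.val h)
    have h1 : i₁ (Multiplicative.ofAdd v.toAdd.1) = i₁ (Multiplicative.ofAdd w.toAdd.1) :=
      Subtype.ext (Prod.ext_iff.1 h').1
    obtain ⟨h2, h3⟩ := tau_inj (Prod.ext_iff.1 h').2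
    rw [Nat.mod_eq_of_lt (ZMod.val_lt _), Nat.mod_eq_of_lt (ZMod.val_lt _)] at h2 h3
    exact Multiplicative.toAdd.injective
      (Prod.ext (i₁.injective h1) (Prod.ext (ZMod.val_injective 4 h2) (ZMod.val_injective 4 h3)))
  · obtain ⟨hc, a, b, hab⟩ := exists_tau e x.2
    refine ⟨Multiplicative.ofAdd ((i₁.symm ⟨_, hc⟩).toAdd, (a : ZMod 4), (b : ZMod 4)), ?_⟩
    apply Subtype.ext
    apply Subtype.ext
    refine Prod.ext ?_ ?_
    · show ((i₁ (i₁.symm ⟨_, hc⟩) : Subgroup.center SLF) : SLF) = _
      rw [i₁.apply_symm_apply]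
    · show tau ((a : ZMod 4)).val ((b : ZMod 4)).val = x.1.1.2
      rw [hab, ZMod.val_natCast, ZMod.val_natCast]
      exact tau_congr (Nat.mod_mod _ _) (Nat.mod_mod _ _)

end Cfsg.Agent.MultL34
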