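import Mathlib
import Cfsg.Agent.Lib.CoverL34.Main
import Cfsg.Prelude.Def_KGroupFacts

/-!
Kernels of stem extensions of `PSL(3,4)` are images of `Z/3 × Z/4 × Z/4`: transfers into the
Sylow subgroups give exponent 12 and a cyclic 3-part, and the bound for exponent two gives the rank.
-/

set_option autoImplicit false

namespace Cfsg.Agent.MultL34

open Cfsg.Agent.CoverL34
open scoped commutatorElement

section Transfer

variable {E G : Type*} [Group E] [Finite E] [Group G] (π : E →* G)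

/-- The transfer into the preimage of a subgroup. -/
theorem pow_index_mem (hπ : Function.Surjective π) (hc : π.ker ≤ Subgroup.center E)
    (hd : π.ker ≤ commutator E) (T : Subgroup G) {v : E} (hv : v ∈ π.ker) :
    v ^ T.index ∈ ⁅T.comap π, T.comap π⁆ := by
  classical
  set W := T.comap π with hW
  haveI : W.FiniteIndex := Subgroup.finiteIndex_of_finite
  let φ : W →* Abelianization W := Abelianization.of
  have h0 : MonoidHom.transfer φ v = 1 := Abelianization.commutator_subset_ker _ (hd hv)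
  have key : ∀ (k : ℕ) (g₀ : E), g₀⁻¹ * v ^ k * g₀ ∈ W → g₀⁻¹ * v ^ k * g₀ = v ^ k := by
    intro k g₀ _
    rw [Subgroup.mem_center_iff.1 (hc (pow_mem hv k)) g₀⁻¹, inv_mul_cancel_right]
  rw [MonoidHom.transfer_eq_pow φ v key, ← MonoidHom.mem_ker, Abelianization.ker_of] at h0
  have h3 := Subgroup.mem_map_of_mem W.subtype h0
  rw [Subgroup.map_subtype_commutator] at h3
  rw [← Subgroup.index_comap_of_surjective T hπ]
  exact h3

variable {π}

theorem commute_ker (hc : π.ker ≤ Subgroup.center E) {z : E} (hz : π z = 1) (x : E) :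
    Commute x z := Subgroup.mem_center_iff.1 (hc (MonoidHom.mem_ker.2 hz)) x

/-- Over an abelian group with two generators the derived group of the preimage is cyclic. -/
theorem comm_le_zpowers (hc : π.ker ≤ Subgroup.center E) (hπ : Function.Surjective π)
    (T : Subgroup G) (a b : G) (ha : a ∈ T) (hb : b ∈ T)
    (hgen : T ≤ Subgroup.closure {a, b}) (hcomm : a * b = b * a) {n : ℕ} (han : a ^ n = 1) :
    ∃ c : E, c ^ n = 1 ∧ ⁅T.comap π, T.comap π⁆ ≤ Subgroup.zpowers c := by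
  obtain ⟨x, hx⟩ := hπ a
  obtain ⟨y, hy⟩ := hπ b
  have hzk : π ⁅x, y⁆ = 1 := by
    rw [map_commutatorElement, hx, hy, commutatorElement_eq_one_iff_mul_comm, hcomm]
  set c := ⁅x, y⁆ with hcdef
  refine ⟨c, ?_, ?_⟩
  · have hpow : ∀ m : ℕ, ⁅x ^ m, y⁆ = c ^ m := by
      intro m
      induction m with
      | zero => simp
      | succ m ih =>
        rw [pow_succ' x, pow_succ c]
        calc ⁅x * x ^ m, y⁆ = x * ⁅x ^ m, y⁆ * x⁻¹ * c := by
              simp only [hcdef, commutatorElement_def]; group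
          _ = c ^ m * c := by
              rw [ih, ((commute_ker hc hzk x).pow_right m).eq, mul_inv_cancel_right]
    have hxn : π (x ^ n) = 1 := by rw [map_pow, hx, han]
    have h := (commute_ker hc hxn y).symm.commutator_eq
    rwa [hpow] at h
  · haveI : (Subgroup.zpowers c).Normal := ⟨fun z hz g => by
      obtain ⟨i, rfl⟩ := hz
      rw [((commute_ker hc hzk g).zpow_right i).eq, mul_inv_cancel_right]
      exact Subgroup.zpow_mem_zpowers c i⟩
    -- modulo `c`, the preimage is generated by commuting elements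
    let q := QuotientGroup.mk' (Subgroup.zpowers c)
    have hW : T.comap π ≤ Subgroup.closure {x, y} ⊔ π.ker := by
      intro w hw
      have : π w ∈ (Subgroup.closure ({x, y} : Set E)).map π := by
        rw [MonoidHom.map_closure, Set.image_pair, hx, hy]
        exact hgen hw
      obtain ⟨u, hu, hue⟩ := this
      have : u⁻¹ * w ∈ π.ker := by rw [MonoidHom.mem_ker, map_mul, map_inv, hue, inv_mul_cancel]
      simpa using mul_mem ((le_sup_left : _ ≤ Subgroup.closure {x, y} ⊔ π.ker) hu)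
        ((le_sup_right : _ ≤ Subgroup.closure {x, y} ⊔ π.ker) this)
    have hq : ∀ w ∈ Subgroup.closure {x, y} ⊔ π.ker, ∀ w' ∈ Subgroup.closure {x, y} ⊔ π.ker,
        Commute (q w) (q w') := by
      have hgen' : Subgroup.closure {x, y} ⊔ π.ker =
          Subgroup.closure ({x, y} ∪ (π.ker : Set E)) := by
        rw [Subgroup.closure_union, Subgroup.closure_eq]
      have hbase : ∀ u ∈ ({x, y} ∪ (π.ker : Set E)), ∀ u' ∈ ({x, y} ∪ (π.ker : Set E)),
          Commute (q u) (q u') := by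
        have hxy : Commute (q x) (q y) := commutatorElement_eq_one_iff_mul_comm.1 (by
          rw [← map_commutatorElement, ← hcdef, QuotientGroup.mk'_apply, QuotientGroup.eq_one_iff]
          exact Subgroup.mem_zpowers c)
        intro u hu u' hu'
        rcases hu with (rfl | rfl) | hu
        all_goals rcases hu' with (rfl | rfl) | hu'
        all_goals first
          | exact Commute.refl _
          | exact hxy
          | exact hxy.symm
          | exact (commute_ker hc hu' _).map q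
          | exact ((commute_ker hc hu _).map q).symm
      rw [hgen']
      intro w hw w' hw'
      induction hw, hw' using Subgroup.closure_induction₂ with
      | mem u u' hu hu' => exact hbase u hu u' hu'
      | one_left u hu => rw [map_one]; exact Commute.one_left _
      | one_right u hu => rw [map_one]; exact Commute.one_right _
      | mul_left u u' v hu hu' hv h1 h2 => rw [map_mul]; exact h1.mul_left h2
      | mul_right u u' v hu hu' hv h1 h2 => rw [map_mul]; exact h1.mul_right h2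
      | inv_left u v hu hv h => rw [map_inv]; exact h.inv_left
      | inv_right u v hu hv h => rw [map_inv]; exact h.inv_right
    rw [Subgroup.commutator_le]
    intro w hw w' hw'
    rw [← QuotientGroup.eq_one_iff, ← QuotientGroup.mk'_apply, map_commutatorElement]
    exact (hq w (hW hw) w' (hW hw')).commutator_eq

end Transfer

/-- A group of order `p ^ 2` is generated by two elements, the first of order dividing `p ^ 2`. -/
theorem two_gen {G : Type*} [Group G] [Finite G] {p : ℕ} [hp : Fact p.Prime]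
    (h : Nat.card G = p ^ 2) : ∃ a b : G, Subgroup.closure {a, b} = ⊤ ∧ (a ^ p = 1 ∨ b = 1) := by
  classical
  by_cases hcyc : IsCyclic G
  · obtain ⟨g, hg⟩ := hcyc
    exact ⟨g, 1, eq_top_iff.2 fun x _ => by
      obtain ⟨i, rfl⟩ := hg x
      exact zpow_mem (Subgroup.subset_closure (by simp)) i, Or.inr rfl⟩
  · haveI : Nontrivial G := Finite.one_lt_card_iff_nontrivial.1 (by
      rw [h]; exact Nat.one_lt_pow (by norm_num) hp.out.one_lt)
    obtain ⟨a, ha⟩ := exists_ne (1 : G)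
    have hdiv : orderOf a ∣ p ^ 2 := h ▸ orderOf_dvd_natCard a
    obtain ⟨k, hk, hka⟩ := (Nat.dvd_prime_pow hp.out).1 hdiv
    have hk1 : k = 1 := by
      have h0 : k ≠ 0 := by rintro rfl; exact ha (orderOf_eq_one_iff.1 (by simpa using hka))
      have h2 : k ≠ 2 := by
        rintro rfl
        exact hcyc (isCyclic_of_orderOf_eq_card a (hka.trans h.symm))
      omega
    subst hk1
    rw [pow_one] at hka
    obtain ⟨b, hb⟩ : ∃ b, b ∉ Subgroup.zpowers a := by
      by_contra hall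
      simp only [not_exists, not_not] at hall
      exact hcyc ⟨a, hall⟩
    refine ⟨a, b, ?_, Or.inl (by rw [← hka]; exact pow_orderOf_eq_one a)⟩
    set S := Subgroup.closure ({a, b} : Set G)
    have hle : Subgroup.zpowers a ≤ S := Subgroup.zpowers_le.2 (Subgroup.subset_closure (by simp))
    obtain ⟨m, hm, hmS⟩ := (Nat.dvd_prime_pow hp.out).1 (h ▸ Subgroup.card_subgroup_dvd_card S)
    have hne : Subgroup.zpowers a ≠ S := fun e => hb (e ▸ Subgroup.subset_closure (by simp))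
    by_contra htop
    have hm2 : m ≠ 2 := by
      rintro rfl
      exact htop (Subgroup.eq_top_of_card_eq _ (hmS.trans h.symm))
    apply hne
    refine Subgroup.eq_of_le_of_card_ge hle ?_
    rw [Nat.card_zpowers, hka, hmS]
    calc p ^ m ≤ p ^ 1 := Nat.pow_le_pow_right hp.out.pos (by omega)
      _ = p := pow_one p

variable (K : Type) [Field K] [Fintype K]

/-- The upper unitriangular subgroup. -/
def upper : Subgroup (Matrix.ProjectiveSpecialLinearGroup (Fin 3) K) where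
  carrier := {g | ∃ a b c, g = uP K a b c}
  one_mem' := ⟨0, 0, 0, (uP_zero K).symm⟩
  mul_mem' := by
    rintro _ _ ⟨a, b, c, rfl⟩ ⟨a', b', c', rfl⟩
    exact ⟨_, _, _, uP_mul K _ _ _ _ _ _⟩
  inv_mem' := by
    rintro _ ⟨a, b, c, rfl⟩
    refine ⟨-a, -b, a * b - c, inv_eq_of_mul_eq_one_right ?_⟩
    rw [uP_mul, add_neg_cancel, add_neg_cancel, show c + (a * b - c) + a * -b = 0 by ring, uP_zero]

theorem natCard_upper (hK : Fintype.card K = 4) : Nat.card (upper K) = 64 := by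
  let f : K × K × K → upper K := fun v => ⟨uP K v.1 v.2.1 v.2.2, _, _, _, rfl⟩
  have hf : Function.Bijective f := by
    refine ⟨fun v w h => ?_, ?_⟩
    · obtain ⟨h1, h2, h3⟩ := uP_injective K (congrArg Subtype.val h)
      exact Prod.ext h1 (Prod.ext h2 h3)
    · rintro ⟨_, a, b, c, rfl⟩
      exact ⟨(a, b, c), rfl⟩
  rw [← Nat.card_congr (Equiv.ofBijective f hf), Nat.card_eq_fintype_card, Fintype.card_prod,
    Fintype.card_prod, hK]

variable {K}
variable {E : Type*} [Group E] [Finite E] {π : E →* (Matrix.ProjectiveSpecialLinearGroup (Fin 3) K)}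

theorem pow_four (hK : Fintype.card K = 4) (hπ : Function.Surjective π)
    (hc : π.ker ≤ Subgroup.center E) {d : E}
    (hd : d ∈ ⁅(upper K).comap π, (upper K).comap π⁆) : d ^ 4 = 1 := by
  have hadd := (field_facts hK).1
  set W := (upper K).comap π
  have hcen : ∀ {z : E}, π z = 1 → ∀ w, Commute w z := fun hz w => commute_ker hc hz w
  -- the preimage of the centre of the unitriangular group
  have hsq : ∀ {d w : E}, (∃ c, π d = uP K 0 0 c) → w ∈ W →
      π ⁅w, d⁆ = 1 ∧ ⁅w, d⁆ ^ 2 = 1 := by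
    rintro d w ⟨c, hd⟩ ⟨a, b, c', hw⟩
    have h1 : π ⁅w, d⁆ = 1 := by
      rw [map_commutatorElement, commutatorElement_eq_one_iff_mul_comm, hd, hw, uP_mul, uP_mul]
      congr 1 <;> ring
    have h2 : π (d * d) = 1 := by
      rw [map_mul, hd, uP_mul, hadd, hadd, mul_zero, add_zero, uP_zero]
    refine ⟨h1, ?_⟩
    calc ⁅w, d⁆ ^ 2 = ⁅w, d⁆ * (d * ⁅w, d⁆ * d⁻¹) := by
          rw [(hcen h1 d).eq, mul_inv_cancel_right, pow_two]
      _ = ⁅w, d * d⁆ := by simp only [commutatorElement_def]; group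
      _ = 1 := (hcen h2 w).commutator_eq
  let D : Subgroup E :=
    { carrier := {x | x ∈ W ∧ (∃ c, π x = uP K 0 0 c) ∧ x ^ 4 = 1}
      one_mem' := ⟨one_mem _, ⟨0, by rw [map_one, uP_zero]⟩, one_pow 4⟩
      mul_mem' := by
        rintro x y ⟨hxW, ⟨c, hx⟩, hx4⟩ ⟨hyW, ⟨c', hy⟩, hy4⟩
        refine ⟨mul_mem hxW hyW, ⟨c + c', by rw [map_mul, hx, hy, uP_mul]; simp⟩, ?_⟩
        obtain ⟨hz, hz2⟩ := hsq ⟨c, hx⟩ hyW
        set z := ⁅y, x⁆ with hzdef
        have hyx : y * x = z * (x * y) := by rw [hzdef, commutatorElement_def]; group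
        have h2 : (x * y) ^ 2 = z * (x ^ 2 * y ^ 2) := by
          calc (x * y) ^ 2 = x * (y * x) * y := by rw [pow_two]; group
            _ = x * z * (x * y * y) := by rw [hyx]; group
            _ = z * x * (x * y * y) := by rw [(hcen hz x).eq]
            _ = _ := by rw [pow_two, pow_two]; group
        have hxy2 : Commute (x ^ 2) (y ^ 2) := by
          have : π (x ^ 2) = 1 := by
            rw [pow_two, map_mul, hx, uP_mul, hadd, hadd, mul_zero, add_zero, uP_zero]
          exact (hcen this _).symm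
        calc (x * y) ^ 4 = ((x * y) ^ 2) ^ 2 := by rw [← pow_mul]
          _ = z ^ 2 * ((x ^ 2) ^ 2 * (y ^ 2) ^ 2) := by
              rw [h2, ((hcen hz _).symm).mul_pow, hxy2.mul_pow]
          _ = 1 := by rw [hz2, ← pow_mul, ← pow_mul, hx4, hy4, mul_one, mul_one]
      inv_mem' := by
        rintro x ⟨hxW, ⟨c, hx⟩, hx4⟩
        refine ⟨inv_mem hxW, ⟨c, ?_⟩, by rw [inv_pow, hx4, inv_one]⟩
        rw [map_inv, hx]
        exact inv_eq_of_mul_eq_one_right (by rw [uP_mul, hadd, hadd, mul_zero, add_zero, uP_zero]) }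
  have hone : ∀ x y : E, x ∈ W → π (x * x) = 1 → y ∈ W → ⁅x, y⁆ ∈ D := by
    intro x y hxW hx2 hyW
    obtain ⟨a, b, c, hx⟩ := hxW
    obtain ⟨a', b', c', hy⟩ := hyW
    have hxy : π ⁅x, y⁆ = uP K 0 0 (a * b' - a' * b) := by
      rw [map_commutatorElement, hx, hy, commutatorElement_def, mul_inv_eq_iff_eq_mul,
        mul_inv_eq_iff_eq_mul, uP_mul, uP_mul, uP_mul]
      congr 1 <;> ring
    have hmW : ⁅x, y⁆ ∈ W := ⟨0, 0, _, hxy⟩
    refine ⟨hmW, ⟨_, hxy⟩, ?_⟩
    obtain ⟨hz, hz2⟩ := hsq ⟨_, hxy⟩ (show x ∈ W from ⟨a, b, c, hx⟩)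
    set m := ⁅x, y⁆ with hm
    have h1 : ⁅x, m⁆ * (m * m) = 1 := by
      calc ⁅x, m⁆ * (m * m) = ⁅x * x, y⁆ := by simp only [hm, commutatorElement_def]; group
        _ = 1 := (hcen hx2 y).symm.commutator_eq
    calc m ^ 4 = (m * m) * (m * m) := by simp only [pow_succ, pow_zero, one_mul, mul_assoc]
      _ = ⁅x, m⁆ * ⁅x, m⁆ * ((m * m) * (m * m)) := by rw [← pow_two ⁅x, m⁆, hz2, one_mul]
      _ = ⁅x, m⁆ * ((⁅x, m⁆ * (m * m)) * (m * m)) := by group
      _ = 1 := by rw [h1, one_mul, h1]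
  suffices hle : ⁅W, W⁆ ≤ D from (hle hd).2.2
  rw [Subgroup.commutator_le]
  intro x hxW y hyW
  obtain ⟨a, b, c, hx⟩ := id hxW
  obtain ⟨x1, hx1⟩ := hπ (uP K a 0 c)
  obtain ⟨x2, hx2⟩ := hπ (uP K 0 b (a * b))
  have hx1W : x1 ∈ W := ⟨_, _, _, hx1⟩
  have hx2W : x2 ∈ W := ⟨_, _, _, hx2⟩
  have hs1 : π (x1 * x1) = 1 := by
    rw [map_mul, hx1, uP_mul, hadd, hadd, hadd, mul_zero, add_zero, uP_zero]
  have hs2 : π (x2 * x2) = 1 := by
    rw [map_mul, hx2, uP_mul, hadd, hadd, hadd, zero_mul, add_zero, uP_zero]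
  have hk : π ((x1 * x2)⁻¹ * x) = 1 := by
    rw [map_mul, map_inv, map_mul, hx1, hx2, hx, uP_mul, inv_mul_eq_one]
    simp [add_assoc, hadd]
  have e : ⁅x, y⁆ = ⁅x1 * x2, y⁆ := by
    have hcy := hcen hk
    conv_lhs => rw [show x = x1 * x2 * ((x1 * x2)⁻¹ * x) by group]
    generalize (x1 * x2)⁻¹ * x = k at hcy
    simp only [commutatorElement_def, mul_inv_rev]
    calc x1 * x2 * k * y * (k⁻¹ * (x2⁻¹ * x1⁻¹)) * y⁻¹
        = x1 * x2 * (k * y * k⁻¹) * x2⁻¹ * x1⁻¹ * y⁻¹ := by group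
      _ = _ := by rw [← (hcy y).eq, mul_inv_cancel_right]; group
  rw [e, show ⁅x1 * x2, y⁆ = (x1 * ⁅x2, y⁆ * x1⁻¹) * ⁅x1, y⁆ by
    simp only [commutatorElement_def]; group]
  refine mul_mem ?_ (hone x1 y hx1W hs1 hyW)
  obtain ⟨hm1, ⟨c', hm2⟩, hm4⟩ := hone x2 y hx2W hs2 hyW
  refine ⟨mul_mem (mul_mem hx1W hm1) (inv_mem hx1W), ⟨c', ?_⟩, by rw [conj_pow, hm4, mul_one,
    mul_inv_cancel]⟩
  rw [map_mul, map_mul, map_inv, hm2, mul_inv_eq_iff_eq_mul, hx1, uP_mul, uP_mul]
  congr 1 <;> ring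

theorem exponent_data (hK : Fintype.card K = 4) (hπ : Function.Surjective π)
    (hc : π.ker ≤ Subgroup.center E) (hd : π.ker ≤ commutator E) :
    (∀ v ∈ π.ker, v ^ 12 = 1) ∧
      ∃ c : E, c ^ 3 = 1 ∧ ∀ v ∈ π.ker, v ^ 4 ∈ Subgroup.zpowers c := by
  classical
  have hG := natCard_L34 K hK
  haveI : Finite (Matrix.ProjectiveSpecialLinearGroup (Fin 3) K) := Nat.finite_of_card_ne_zero (by rw [hG]; norm_num)
  have h2 : ∀ v ∈ π.ker, v ^ (315 * 4) = 1 := by
    intro v hv
    have hi : (upper K).index = 315 := by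
      have := Subgroup.card_mul_index (upper K)
      rw [natCard_upper K hK, hG] at this
      omega
    rw [pow_mul]
    exact pow_four hK hπ hc (hi ▸ pow_index_mem π hπ hc hd (upper K) hv)
  have hprime : ∀ p m : ℕ, p.Prime → Nat.card (Matrix.ProjectiveSpecialLinearGroup (Fin 3) K) = p * m → ¬ p ∣ m → ∀ v ∈ π.ker, v ^ m = 1 := by
    intro p m hp hm hpm v hv
    haveI : Fact p.Prime := ⟨hp⟩
    obtain ⟨a, ha⟩ := exists_prime_orderOf_dvd_card' (G := (Matrix.ProjectiveSpecialLinearGroup (Fin 3) K)) p (hm ▸ dvd_mul_right p m)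
    have hcard : Nat.card (Subgroup.zpowers a) = p := by rw [Nat.card_zpowers, ha]
    have hi : (Subgroup.zpowers a).index = m := by
      have := Subgroup.card_mul_index (Subgroup.zpowers a)
      rw [hcard, hm] at this
      exact Nat.eq_of_mul_eq_mul_left hp.pos this
    obtain ⟨c, hc1, hle⟩ := comm_le_zpowers hc hπ (Subgroup.zpowers a) 1 a (one_mem _)
      (Subgroup.mem_zpowers a) (Subgroup.zpowers_le.2 (Subgroup.subset_closure (by simp)))
      (by simp) (n := 1) (pow_one 1)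
    rw [pow_one] at hc1
    have := hle (hi ▸ pow_index_mem π hπ hc hd (Subgroup.zpowers a) hv)
    rw [hc1, Subgroup.zpowers_one_eq_bot, Subgroup.mem_bot] at this
    exact this
  haveI : Fact (Nat.Prime 3) := ⟨Nat.prime_three⟩
  obtain ⟨P, hP⟩ := Sylow.exists_subgroup_card_pow_prime (G := (Matrix.ProjectiveSpecialLinearGroup (Fin 3) K)) 3 (n := 2) (by rw [hG]; norm_num)
  have hPi : P.index = 2240 := by
    have := Subgroup.card_mul_index P
    rw [hP, hG] at this
    omega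
  have hPc : ∀ a b : P, a * b = b * a := IsPGroup.commutative_of_card_eq_prime_sq hP
  obtain ⟨a, b, hab, hor⟩ := two_gen (p := 3) hP
  have hgen : P ≤ Subgroup.closure {(a : (Matrix.ProjectiveSpecialLinearGroup (Fin 3) K)), (b : (Matrix.ProjectiveSpecialLinearGroup (Fin 3) K))} := by
    intro x hx
    have := Subgroup.mem_map_of_mem P.subtype (hab ▸ Subgroup.mem_top (⟨x, hx⟩ : P))
    rwa [MonoidHom.map_closure, Set.image_pair] at this
  obtain ⟨c, hc3, hle⟩ : ∃ c : E, c ^ 3 = 1 ∧ ⁅P.comap π, P.comap π⁆ ≤ Subgroup.zpowers c := by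
    rcases hor with ha | hb
    · exact comm_le_zpowers hc hπ P a b a.2 b.2 hgen (congrArg Subtype.val (hPc a b))
        (by simpa using congrArg Subtype.val ha)
    · subst hb
      obtain ⟨c, h1, h2⟩ := comm_le_zpowers hc hπ P (1 : (Matrix.ProjectiveSpecialLinearGroup (Fin 3) K)) a (one_mem _) a.2
        (by rwa [Set.pair_comm] at hgen) (by simp) (n := 1) (pow_one 1)
      exact ⟨c, by rw [pow_one] at h1; rw [h1, one_pow], h2⟩
  have h3 : ∀ v ∈ π.ker, v ^ 2240 ∈ Subgroup.zpowers c := fun v hv =>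
    hle (hPi ▸ pow_index_mem π hπ hc hd P hv)
  have h12 : ∀ v ∈ π.ker, v ^ 12 = 1 := by
    intro v hv
    have e3 : v ^ (2240 * 3) = 1 := by
      obtain ⟨i, hi⟩ := Subgroup.mem_zpowers_iff.1 (h3 v hv)
      rw [pow_mul, ← hi, ← zpow_natCast (c ^ i), ← zpow_mul, mul_comm, zpow_mul, zpow_natCast,
        hc3, one_zpow]
    have e5 := hprime 5 4032 (by norm_num) (by rw [hG]) (by norm_num) v hv
    have e7 := hprime 7 2880 (by norm_num) (by rw [hG]) (by norm_num) v hv
    rw [show 12 = Nat.gcd (Nat.gcd (315 * 4) (2240 * 3)) (Nat.gcd 4032 2880) by decide +kernel]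
    exact pow_gcd_eq_one.2 ⟨pow_gcd_eq_one.2 ⟨h2 v hv, e3⟩, pow_gcd_eq_one.2 ⟨e5, e7⟩⟩
  refine ⟨h12, c, hc3, fun v hv => ?_⟩
  have e : v ^ 4 = (v ^ 2240) ^ 2 := by
    rw [← pow_mul, show 2240 * 2 = 12 * 373 + 4 by norm_num, pow_add, pow_mul, h12 v hv, one_pow,
      one_mul]
  rw [e]
  exact pow_mem (h3 v hv) 2

theorem perfect_of_stem {Γ G : Type*} [Group Γ] [Group G] (σ : Γ →* G)
    (hσ : Function.Surjective σ) (hd : σ.ker ≤ commutator Γ) (hG : commutator G = ⊤) :
    commutator Γ = ⊤ := by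
  have h : (commutator Γ).map σ = ⊤ := by
    rw [commutator_def, Subgroup.map_commutator, ← MonoidHom.range_eq_map,
      MonoidHom.range_eq_top.2 hσ, ← commutator_def, hG]
  have := Subgroup.comap_map_eq σ (commutator Γ)
  rw [h, Subgroup.comap_top, sup_eq_left.2 hd] at this
  exact this.symm

theorem two_rank (hK : Fintype.card K = 4) (hπ : Function.Surjective π)
    (hc : π.ker ≤ Subgroup.center E) (hd : π.ker ≤ commutator E) (hperf : commutator (Matrix.ProjectiveSpecialLinearGroup (Fin 3) K) = ⊤) :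
    ∃ x y : E, x ∈ π.ker ∧ y ∈ π.ker ∧
      ∀ v ∈ π.ker, ∃ i j : ℕ, ∃ s ∈ π.ker, v = x ^ i * y ^ j * s ^ 2 := by
  classical
  letI : CommGroup π.ker :=
    { (inferInstance : Group π.ker) with
      mul_comm := fun a b => Subtype.ext (Subgroup.mem_center_iff.1 (hc b.2) a) }
  let S : Subgroup π.ker := (powMonoidHom 2 : π.ker →* π.ker).range
  let N : Subgroup E := S.map π.ker.subtype
  have hN : N ≤ π.ker := Subgroup.map_subtype_le _
  haveI : N.Normal := ⟨fun x hx g => by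
    have := Subgroup.mem_center_iff.1 (hc (hN hx)) g
    rwa [this, mul_inv_cancel_right]⟩
  let q : E ⧸ N →* (Matrix.ProjectiveSpecialLinearGroup (Fin 3) K) := QuotientGroup.lift N π hN
  have hqs : Function.Surjective q := fun g => by
    obtain ⟨x, rfl⟩ := hπ g
    exact ⟨QuotientGroup.mk x, rfl⟩
  have hqc : q.ker ≤ Subgroup.center (E ⧸ N) := by
    intro z hz
    obtain ⟨x, rfl⟩ := QuotientGroup.mk_surjective z
    rw [Subgroup.mem_center_iff]
    intro w
    obtain ⟨y, rfl⟩ := QuotientGroup.mk_surjective w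
    show ((y * x : E) : E ⧸ N) = ((x * y : E) : E ⧸ N)
    rw [Subgroup.mem_center_iff.1 (hc (show x ∈ π.ker from hz)) y]
  have hq2 : ∀ z ∈ q.ker, z * z = 1 := by
    intro z hz
    obtain ⟨x, rfl⟩ := QuotientGroup.mk_surjective z
    show ((x * x : E) : E ⧸ N) = 1
    rw [QuotientGroup.eq_one_iff]
    exact ⟨⟨x, hz⟩ ^ 2, ⟨⟨x, hz⟩, rfl⟩, by simp [pow_two]⟩
  have hqp : commutator (E ⧸ N) = ⊤ := by
    have h := perfect_of_stem π hπ hd hperf
    rw [commutator_def, ← Subgroup.map_top_of_surjective _ (QuotientGroup.mk'_surjective N),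
      ← Subgroup.map_commutator, ← commutator_def, h]
  have hle := card_ker_le hK q hqs hqc hq2 hqp
  haveI : Fact (Nat.Prime 2) := ⟨Nat.prime_two⟩
  have hpg : IsPGroup 2 q.ker := fun z => ⟨1, Subtype.ext (by simp [pow_two, hq2 z.1 z.2])⟩
  obtain ⟨k, hk⟩ := IsPGroup.iff_card.1 hpg
  have hgen : ∃ a b : q.ker, Subgroup.closure {a, b} = ⊤ := by
    have hk2 : k ≤ 2 := by
      by_contra hlt
      have : (2 : ℕ) ^ 3 ≤ 2 ^ k := Nat.pow_le_pow_right (by norm_num) (by omega)
      omega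
    rcases (show k = 0 ∨ k = 1 ∨ k = 2 by omega) with rfl | rfl | rfl
    · haveI : Subsingleton q.ker := (Nat.card_eq_one_iff_unique.1 (by simpa using hk)).1
      exact ⟨1, 1, Subsingleton.elim _ _⟩
    · obtain ⟨g, hg⟩ := (isCyclic_of_prime_card (α := q.ker) (p := 2) (by simpa using hk)).exists_generator
      exact ⟨g, 1, eq_top_iff.2 fun x _ =>
        Subgroup.zpowers_le.2 (Subgroup.subset_closure (by simp)) (hg x)⟩
    · obtain ⟨a, b, hab, -⟩ := two_gen (p := 2) hk
      exact ⟨a, b, hab⟩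
  obtain ⟨a, b, hab⟩ := hgen
  obtain ⟨x, hx⟩ := QuotientGroup.mk_surjective a.1
  obtain ⟨y, hy⟩ := QuotientGroup.mk_surjective b.1
  have hxk : x ∈ π.ker := by
    have : q (QuotientGroup.mk x) = 1 := by rw [hx]; exact a.2
    exact this
  have hyk : y ∈ π.ker := by
    have : q (QuotientGroup.mk y) = 1 := by rw [hy]; exact b.2
    exact this
  refine ⟨x, y, hxk, hyk, fun v hv => ?_⟩
  have hmem : ∀ z : q.ker, ∃ i j : ℕ, z = a ^ i * b ^ j := by
    intro z
    letI : CommGroup q.ker :=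
      { (inferInstance : Group q.ker) with
        mul_comm := fun u w => Subtype.ext (Subgroup.mem_center_iff.1 (hqc w.2) u) }
    have hz : z ∈ Subgroup.closure ({a, b} : Set q.ker) := hab ▸ Subgroup.mem_top z
    induction hz using Subgroup.closure_induction with
    | mem u hu =>
      rcases hu with rfl | rfl
      · exact ⟨1, 0, by simp⟩
      · exact ⟨0, 1, by simp⟩
    | one => exact ⟨0, 0, by simp⟩
    | mul u w _ _ hu hw =>
      obtain ⟨i, j, rfl⟩ := hu
      obtain ⟨i', j', rfl⟩ := hw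
      exact ⟨i + i', j + j', by rw [pow_add, pow_add, mul_mul_mul_comm]⟩
    | inv u _ hu =>
      obtain ⟨i, j, rfl⟩ := hu
      exact ⟨i, j, inv_eq_of_mul_eq_one_right (Subtype.ext (hq2 _ (a ^ i * b ^ j).2))⟩
  obtain ⟨i, j, hij⟩ := hmem ⟨QuotientGroup.mk v, hv⟩
  have hm : (x ^ i * y ^ j)⁻¹ * v ∈ N := by
    rw [← QuotientGroup.eq]
    have := congrArg Subtype.val hij
    simp only [Subgroup.coe_mul, SubmonoidClass.coe_pow] at this
    rw [this, QuotientGroup.mk_mul, QuotientGroup.mk_pow, QuotientGroup.mk_pow, hx, hy]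
  obtain ⟨w, ⟨s, rfl⟩, hw⟩ := hm
  refine ⟨i, j, s.1, s.2, ?_⟩
  have hw' : (x ^ i * y ^ j)⁻¹ * v = s.1 ^ 2 := by rw [← hw]; rfl
  rw [← hw', mul_inv_cancel_left]

set_option maxHeartbeats 1000000 in
/-- Kernels of stem extensions are images of `Z/3 × Z/4 × Z/4`. -/
theorem exists_onto (hK : Fintype.card K = 4) (hperf : commutator (Matrix.ProjectiveSpecialLinearGroup (Fin 3) K) = ⊤)
    (hπ : Function.Surjective π) (hc : π.ker ≤ Subgroup.center E) (hd : π.ker ≤ commutator E) :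
    ∃ φ : Multiplicative (ZMod 3 × ZMod 4 × ZMod 4) →* π.ker, Function.Surjective φ := by
  classical
  obtain ⟨h12, c, hc3, h4⟩ := exponent_data hK hπ hc hd
  obtain ⟨x0, y0, hx0, hy0, hrank⟩ := two_rank hK hπ hc hd hperf
  letI : CommGroup π.ker :=
    { (inferInstance : Group π.ker) with
      mul_comm := fun a b => Subtype.ext (Subgroup.mem_center_iff.1 (hc b.2) a) }
  -- a generator of the part of order three inside the kernel
  obtain ⟨c', hc'3, hc'⟩ : ∃ c' : π.ker, c' ^ 3 = 1 ∧ ∀ v : π.ker, ∃ i : ℕ, v ^ 4 = c' ^ i := by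
    by_cases hall : ∀ v : π.ker, v ^ 4 = 1
    · exact ⟨1, one_pow 3, fun v => ⟨0, by rw [hall v, pow_zero]⟩⟩
    · obtain ⟨w, hw⟩ := not_forall.1 hall
      refine ⟨w ^ 4, by rw [← pow_mul]; exact Subtype.ext (h12 w.1 w.2), fun v => ?_⟩
      obtain ⟨i, hi⟩ := mem_powers_iff_mem_zpowers.2 (h4 w.1 w.2)
      obtain ⟨j, hj⟩ := mem_powers_iff_mem_zpowers.2 (h4 v.1 v.2)
      simp only at hi hj
      have hi0 : i % 3 ≠ 0 := fun h => hw (Subtype.ext (by
        show (w : E) ^ 4 = 1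
        rw [← hi, pow_eq_pow_mod i hc3, h, pow_zero]))
      -- `i` is invertible modulo three
      refine ⟨i * j % 3, Subtype.ext ?_⟩
      show (v : E) ^ 4 = ((w : E) ^ 4) ^ (i * j % 3)
      rw [← hi, ← hj, ← pow_mul, pow_eq_pow_mod j hc3, pow_eq_pow_mod (i * _) hc3]
      congr 1
      have : j % 3 = 0 ∨ j % 3 = 1 ∨ j % 3 = 2 := by omega
      rw [Nat.mul_mod i (i * j % 3), Nat.mod_mod, Nat.mul_mod i j]
      rcases (show i % 3 = 1 ∨ i % 3 = 2 by omega) with h | h <;>
        rcases this with h' | h' | h' <;> simp [h, h']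
  have e12 : ∀ v : π.ker, v ^ 12 = 1 := fun v => Subtype.ext (h12 v.1 v.2)
  set x : π.ker := ⟨x0, hx0⟩ ^ 9 with hx
  set y : π.ker := ⟨y0, hy0⟩ ^ 9 with hy
  have hx4 : x ^ 4 = 1 := by rw [hx, ← pow_mul, show 9 * 4 = 12 * 3 by norm_num, pow_mul, e12, one_pow]
  have hy4 : y ^ 4 = 1 := by rw [hy, ← pow_mul, show 9 * 4 = 12 * 3 by norm_num, pow_mul, e12, one_pow]
  refine ⟨MonoidHom.mk' (fun v => c' ^ v.toAdd.1.val * x ^ v.toAdd.2.1.val * y ^ v.toAdd.2.2.val)
    (fun v w => ?_), fun v => ?_⟩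
  · simp only [toAdd_mul, Prod.fst_add, Prod.snd_add, ZMod.val_add, ← pow_eq_pow_mod _ hc'3,
      ← pow_eq_pow_mod _ hx4, ← pow_eq_pow_mod _ hy4, pow_add]
    rw [mul_mul_mul_comm (c' ^ _ * x ^ _) (y ^ _), mul_mul_mul_comm (c' ^ _) (x ^ _)]
  · obtain ⟨i1, j1, s, hs, hv1⟩ := hrank v.1 v.2
    obtain ⟨i2, j2, r, hr, hv2⟩ := hrank s hs
    obtain ⟨m, hm⟩ := hc' v
    have hv : v ^ 9 = x ^ (i1 + 2 * i2) * y ^ (j1 + 2 * j2) := by
      have e : v = (⟨x0, hx0⟩ : π.ker) ^ (i1 + 2 * i2) * ⟨y0, hy0⟩ ^ (j1 + 2 * j2) *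
          (⟨r, hr⟩ : π.ker) ^ 4 := by
        have a1 : v = (⟨x0, hx0⟩ : π.ker) ^ i1 * ⟨y0, hy0⟩ ^ j1 * (⟨s, hs⟩ : π.ker) ^ 2 :=
          Subtype.ext hv1
        have a2 : (⟨s, hs⟩ : π.ker) =
            (⟨x0, hx0⟩ : π.ker) ^ i2 * ⟨y0, hy0⟩ ^ j2 * (⟨r, hr⟩ : π.ker) ^ 2 := Subtype.ext hv2
        rw [a1, a2, mul_pow, mul_pow, ← pow_mul, ← pow_mul, ← pow_mul, pow_add, pow_add,
          mul_comm i2 2, mul_comm j2 2]
        rw [← mul_assoc, mul_mul_mul_comm]
      rw [e, mul_pow, mul_pow, hx, hy, ← pow_mul, ← pow_mul, ← pow_mul, ← pow_mul, ← pow_mul,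
        mul_comm 9, mul_comm 9, show 4 * 9 = 12 * 3 by norm_num, pow_mul _ 12, e12, one_pow, mul_one]
    have hsplit : v = v ^ 4 * v ^ 9 := by
      rw [← pow_add, show 4 + 9 = 12 + 1 by norm_num, pow_add, e12, one_mul, pow_one]
    refine ⟨Multiplicative.ofAdd ((m : ZMod 3), ((i1 + 2 * i2 : ℕ) : ZMod 4),
      ((j1 + 2 * j2 : ℕ) : ZMod 4)), ?_⟩
    simp only [MonoidHom.mk'_apply, toAdd_ofAdd, ZMod.val_natCast, ← pow_eq_pow_mod _ hc'3,
      ← pow_eq_pow_mod _ hx4, ← pow_eq_pow_mod _ hy4]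
    rw [mul_assoc, ← hv, ← hm, ← hsplit]

end Cfsg.Agent.MultL34
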