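import Mathlib
import Cfsg.Agent.Lib.MultL34.Cover
import Cfsg.Agent.Lib.MultL34.Upper
import Cfsg.Agent.Lib.LinearGroups.PSL

/-!
The Schur multiplier of `PSL(3,4)` is `Z/3 × Z/4 × Z/4`.
-/

set_option autoImplicit false

namespace Cfsg.Agent.MultL34

open Cfsg.Agent.Enum

universe u

theorem nonempty_equiv_F4 {F : Type u} [Field F] [Fintype F] (hF : Fintype.card F = 4) :
    Nonempty (F ≃+* F4) := by
  haveI : Fact (Nat.Prime 2) := ⟨Nat.prime_two⟩
  exact ⟨FiniteField.ringEquivOfCardEq (by rw [hF, F4.card_eq])⟩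

theorem map_center {F : Type u} [Field F] (e : F ≃+* F4) {s : Matrix.SpecialLinearGroup (Fin 3) F}
    (hs : s ∈ Subgroup.center _) :
    Matrix.SpecialLinearGroup.map e.toRingHom s ∈ Subgroup.center _ := by
  rw [Subgroup.mem_center_iff]
  intro g
  rw [← map_map_symm e g, ← map_mul, ← map_mul, Subgroup.mem_center_iff.1 hs]

theorem hasSchurMultiplier {F : Type u} [Field F] [Fintype F] (hF : Fintype.card F = 4) :
    Cfsg.HasSchurMultiplier (Matrix.ProjectiveSpecialLinearGroup (Fin 3) F)
      (Multiplicative (ZMod 3 × ZMod 4 × ZMod 4)) := by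
  classical
  obtain ⟨e⟩ := nonempty_equiv_F4 hF
  refine ⟨⟨↥(cover e), inferInstance, inferInstance, proj e, isStem e, ker_equiv e hF⟩, ?_⟩
  intro Γ _ _ σ hσ
  obtain ⟨hsur, hcen, hcom⟩ := hσ
  let φ : Matrix.ProjectiveSpecialLinearGroup (Fin 3) F →*
      Matrix.ProjectiveSpecialLinearGroup (Fin 3) F4 :=
    QuotientGroup.map _ _ (Matrix.SpecialLinearGroup.map e.toRingHom) fun s hs => map_center e hs
  have hφs : Function.Surjective φ := by
    intro g
    obtain ⟨g, rfl⟩ := QuotientGroup.mk_surjective g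
    exact ⟨QuotientGroup.mk (Matrix.SpecialLinearGroup.map e.symm.toRingHom g), by
      show QuotientGroup.mk (Matrix.SpecialLinearGroup.map e.toRingHom _) = _
      rw [map_map_symm]⟩
  have hφi : Function.Injective φ := by
    rw [injective_iff_map_eq_one]
    intro g hg
    obtain ⟨g, rfl⟩ := QuotientGroup.mk_surjective g
    change QuotientGroup.mk (Matrix.SpecialLinearGroup.map e.toRingHom g) = 1 at hg
    rw [QuotientGroup.eq_one_iff, Subgroup.mem_center_iff] at hg
    rw [QuotientGroup.eq_one_iff, Subgroup.mem_center_iff]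
    intro s
    exact map_injective e (by rw [map_mul, map_mul, hg])
  have hker : (φ.comp σ).ker = σ.ker := by
    ext x
    simp only [MonoidHom.mem_ker, MonoidHom.comp_apply]
    exact ⟨fun h => hφi (by rw [h, map_one]), fun h => by rw [h, map_one]⟩
  obtain ⟨ψ, hψ⟩ := exists_onto (π := φ.comp σ) F4.card_eq
    (LinGrp.commutator_PSL_eq_top (by simp)) (hφs.comp hsur) (hker ▸ hcen) (hker ▸ hcom)
  exact ⟨(MulEquiv.subgroupCongr hker).toMonoidHom.comp ψ,
    (MulEquiv.subgroupCongr hker).surjective.comp hψ⟩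

end Cfsg.Agent.MultL34
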